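import Mathlib

/-!
# PF12 package (AR) (helper57): the arithmetic endgame of Peterfalvi (12.7)
-/

set_option autoImplicit false

namespace Cfsg.Agent.Lib.Helper57.PF12

/-- integer core of the endgame: `c = e + p m`, `p c² ≤ (p + 1) e` is impossible -/
theorem pf12_arith_int (e p : ℕ) (m : ℤ) (he3 : 3 ≤ e) (hep : e + 2 ≤ p) (hdvd : e ∣ p ^ 2 - 1)
    (h : (p : ℤ) * ((e : ℤ) + p * m) ^ 2 ≤ ((p : ℤ) + 1) * e) : False := by
  have he3' : (3 : ℤ) ≤ e := by exact_mod_cast he3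
  have hep' : (e : ℤ) + 2 ≤ p := by exact_mod_cast hep
  obtain ⟨c, hc⟩ : ∃ c : ℤ, c = (e : ℤ) + p * m := ⟨_, rfl⟩
  rw [← hc] at h
  -- `c² ≤ e`
  have hce : c ^ 2 ≤ e := by
    by_contra hcon
    push Not at hcon
    have h1 : (e : ℤ) + 1 ≤ c ^ 2 := hcon
    nlinarith
  rcases lt_trichotomy m 0 with hm | hm | hm
  · -- `m ≤ -1`
    have hm1 : m ≤ -1 := by omega
    obtain ⟨d, hd⟩ : ∃ d : ℕ, d = p - e := ⟨_, rfl⟩
    have hd2 : 2 ≤ d := by omega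
    have hpd : p = e + d := by omega
    have hd' : (d : ℤ) = (p : ℤ) - e := by rw [hpd]; push_cast; ring
    have hcd : c ≤ -(d : ℤ) := by
      rw [hc, hd']
      nlinarith
    have hdd : (d : ℤ) ^ 2 ≤ c ^ 2 := by nlinarith
    have hde : d ^ 2 ≤ e := by
      have : (d : ℤ) ^ 2 ≤ e := le_trans hdd hce
      exact_mod_cast this
    have hd4 : 4 ≤ d ^ 2 := by nlinarith
    have hsplit : p ^ 2 - 1 = e * (e + 2 * d) + (d ^ 2 - 1) := by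
      rw [hpd]
      have h1 : (e + d) ^ 2 = e * (e + 2 * d) + d ^ 2 := by ring
      rw [h1]
      omega
    rw [hsplit] at hdvd
    have hdvd2 : e ∣ d ^ 2 - 1 := (Nat.dvd_add_right (Dvd.intro _ rfl)).1 hdvd
    have hle := Nat.le_of_dvd (by omega) hdvd2
    omega
  · -- `m = 0`
    rw [hm, mul_zero, add_zero] at hc
    rw [hc] at hce
    nlinarith
  · -- `m ≥ 1`
    have hm1 : 1 ≤ m := by omega
    have hcp : (e : ℤ) + p ≤ c := by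
      rw [hc]
      nlinarith
    nlinarith

/-- **(AR)** the arithmetic endgame. -/
theorem pf12_arith (e p cK cH cL cN cD : ℕ) (g m : ℤ) (he3 : 3 ≤ e) (hep : e + 2 ≤ p)
    (hdvd : e ∣ p ^ 2 - 1) (hK : p ^ 2 ≤ cK) (hN : cN = e * cK) (hL : cL ≤ cH * cK)
    (hL0 : 0 < cL) (hH : (p + 1) * cD ≤ cH) (hD0 : 0 < cD)
    (hineq : (cL : ℝ)⁻¹ * (((cH : ℝ) - cD) * ((e : ℝ) + g + p * m) ^ 2) +
      (cN : ℝ)⁻¹ * ((cN : ℝ) - (e : ℝ) ^ 2 - 2 * g * e + (g : ℝ) ^ 2 * ((cK : ℝ) - 1)) ≤ 1) :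
    False := by
  -- positivity
  have he3r : (3 : ℝ) ≤ e := by exact_mod_cast he3
  have hepr : (e : ℝ) + 2 ≤ p := by exact_mod_cast hep
  have hKr : (p : ℝ) ^ 2 ≤ cK := by exact_mod_cast hK
  have hp5 : (5 : ℝ) ≤ p := by linarith
  have hp0 : (0 : ℝ) ≤ p := by linarith
  have he0 : (0 : ℝ) < e := by linarith
  have hpp : ((e : ℝ) + 2) ^ 2 ≤ (p : ℝ) ^ 2 := by
    apply pow_le_pow_left₀ (by linarith) hepr
  have hcK1 : ((e : ℝ) + 2) ^ 2 ≤ cK := le_trans hpp hKr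
  have hcK0 : (0 : ℝ) < cK := by
    have : (0 : ℝ) < ((e : ℝ) + 2) ^ 2 := by positivity
    linarith
  have hNr : (cN : ℝ) = e * cK := by exact_mod_cast hN
  have hcN0 : (0 : ℝ) < cN := by rw [hNr]; positivity
  have hcL0 : (0 : ℝ) < cL := by exact_mod_cast hL0
  have hcD0 : (0 : ℝ) < cD := by exact_mod_cast hD0
  have hHr : ((p : ℝ) + 1) * cD ≤ cH := by exact_mod_cast hH
  have hLr : (cL : ℝ) ≤ cH * cK := by exact_mod_cast hL
  have hpD : (0 : ℝ) ≤ (p : ℝ) * cD := mul_nonneg hp0 hcD0.le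
  have hcH0 : (0 : ℝ) < cH := by linarith
  have hHD : (0 : ℝ) ≤ (cH : ℝ) - cD := by linarith
  have hLterm : (0 : ℝ) ≤ (cL : ℝ)⁻¹ * (((cH : ℝ) - cD) * ((e : ℝ) + g + p * m) ^ 2) := by
    positivity
  -- (A) `g = 0`
  have hg0 : g = 0 := by
    by_contra hg
    have hg1 : (1 : ℤ) ≤ g ^ 2 := by
      have : 0 < g ^ 2 := by positivity
      omega
    have hg1r : (1 : ℝ) ≤ (g : ℝ) ^ 2 := by exact_mod_cast hg1
    have hgg : (g : ℝ) ≤ (g : ℝ) ^ 2 := by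
      have h1 : g ≤ g ^ 2 := by
        rcases le_or_gt g 0 with h | h
        · have : (0 : ℤ) ≤ g ^ 2 := by positivity
          omega
        · have h2 : (1 : ℤ) ≤ g := by omega
          have h3 : g * 1 ≤ g * g := mul_le_mul_of_nonneg_left h2 (by omega)
          rw [pow_two]
          omega
      exact_mod_cast h1
    have hG0 : (0 : ℝ) ≤ (g : ℝ) ^ 2 := by positivity
    have hX : (0 : ℝ) < (g : ℝ) ^ 2 * ((cK : ℝ) - 1) - (e : ℝ) ^ 2 - 2 * g * e := by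
      have h2 : (g : ℝ) ^ 2 * (((e : ℝ) + 2) ^ 2 - 1) ≤ (g : ℝ) ^ 2 * ((cK : ℝ) - 1) :=
        mul_le_mul_of_nonneg_left (by linarith) hG0
      have h3 : (g : ℝ) * e ≤ (g : ℝ) ^ 2 * e := mul_le_mul_of_nonneg_right hgg he0.le
      have h4 : (1 : ℝ) * ((e : ℝ) ^ 2 + 2 * e + 3) ≤ (g : ℝ) ^ 2 * ((e : ℝ) ^ 2 + 2 * e + 3) :=
        mul_le_mul_of_nonneg_right hg1r (by positivity)
      have h5 : (g : ℝ) ^ 2 * (((e : ℝ) + 2) ^ 2 - 1) =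
          (g : ℝ) ^ 2 * ((e : ℝ) ^ 2 + 2 * e + 3) + 2 * ((g : ℝ) ^ 2 * e) := by ring
      linarith
    have hNterm : (1 : ℝ) < (cN : ℝ)⁻¹ * ((cN : ℝ) - (e : ℝ) ^ 2 - 2 * g * e +
        (g : ℝ) ^ 2 * ((cK : ℝ) - 1)) := by
      rw [inv_mul_eq_div, lt_div_iff₀ hcN0]
      linarith
    linarith
  -- (B) the integer inequality
  rw [hg0] at hineq
  simp only [Int.cast_zero, add_zero, mul_zero, zero_mul, sub_zero, ne_eq, OfNat.ofNat_ne_zero,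
    not_false_eq_true, zero_pow] at hineq
  obtain ⟨C, hC⟩ : ∃ C : ℝ, C = (e : ℝ) + p * m := ⟨_, rfl⟩
  rw [← hC] at hineq
  have hN1 : (cN : ℝ)⁻¹ * ((cN : ℝ) - (e : ℝ) ^ 2) = 1 - (e : ℝ) / cK := by
    rw [hNr]
    field_simp
  rw [hN1] at hineq
  have h1 : (cL : ℝ)⁻¹ * (((cH : ℝ) - cD) * C ^ 2) ≤ (e : ℝ) / cK := by linarith
  have h2 : ((cH : ℝ) - cD) * C ^ 2 * cK ≤ e * cL := by
    rw [inv_mul_eq_div, div_le_div_iff₀ hcL0 hcK0] at h1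
    linarith
  have hC2 : (0 : ℝ) ≤ C ^ 2 := sq_nonneg C
  have h3 : ((cH : ℝ) - cD) * C ^ 2 ≤ e * cH := by
    have h4a : (e : ℝ) * cL ≤ e * (cH * cK) := mul_le_mul_of_nonneg_left hLr he0.le
    have h4 : ((cH : ℝ) - cD) * C ^ 2 * cK ≤ e * cH * cK := by linarith
    exact le_of_mul_le_mul_right h4 hcK0
  have h5 : (p : ℝ) * cH ≤ ((p : ℝ) + 1) * ((cH : ℝ) - cD) := by linarith
  have h6 : (p : ℝ) * C ^ 2 * cH ≤ ((p : ℝ) + 1) * e * cH := by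
    have h7 : (p : ℝ) * cH * C ^ 2 ≤ ((p : ℝ) + 1) * ((cH : ℝ) - cD) * C ^ 2 :=
      mul_le_mul_of_nonneg_right h5 hC2
    have h7b : ((p : ℝ) + 1) * (((cH : ℝ) - cD) * C ^ 2) ≤ ((p : ℝ) + 1) * (e * cH) :=
      mul_le_mul_of_nonneg_left h3 (by linarith)
    linarith
  have h8 : (p : ℝ) * C ^ 2 ≤ ((p : ℝ) + 1) * e := le_of_mul_le_mul_right h6 hcH0
  have h9 : (p : ℤ) * ((e : ℤ) + p * m) ^ 2 ≤ ((p : ℤ) + 1) * e := by
    rw [hC] at h8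
    exact_mod_cast h8
  exact pf12_arith_int e p m he3 hep hdvd h9

end Cfsg.Agent.Lib.Helper57.PF12
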